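import Groth.Agent.CxRes.Basic
import Groth.Agent.KInjRes.Stable
import Groth.Agent.KFlatLib.Bounded

/-!
An unbounded complex maps quasi-isomorphically into a complex with terms in a class of finite
dimension (Hartshorne, Residues and Duality, I.4.6).
-/

universe v u

open CategoryTheory CategoryTheory.Limits HomologicalComplex

namespace Groth.Agent.UnbRes

variable {A : Type u} [Category.{v} A] [Abelian A]

/-- The hypotheses on the class: cogenerating, two-out-of-three, dimension at most `n`. -/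
structure Ctx (P : A → Prop) (n : ℕ) : Prop where
  emb : ∀ X : A, ∃ (Y : A) (i : X ⟶ Y), P Y ∧ Mono i
  two : ∀ S : ShortComplex A, S.ShortExact → P S.X₁ → (P S.X₂ ↔ P S.X₃)
  pos : 1 ≤ n
  dim : ∀ K : CochainComplex A ℕ, (∀ i : ℕ, 1 ≤ i → i ≤ n → K.ExactAt i) →
    (∀ i : ℕ, n < i → IsZero (K.X i)) → Epi (K.d (n - 1) n) →
    (∀ i : ℕ, i < n → P (K.X i)) → P (K.X n)

variable {P : A → Prop} {n : ℕ} (c : Ctx P n)

include c

theorem zero {Z : A} (hZ : IsZero Z) : P Z := by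
  obtain ⟨Y, i, hY, -⟩ := c.emb Z
  let S := ShortComplex.mk (𝟙 Y) (0 : Y ⟶ Z) (by simp)
  have hS : S.ShortExact :=
    { exact := (S.exact_iff_epi (by rfl)).2 (inferInstanceAs (Epi (𝟙 Y)))
      mono_f := inferInstanceAs (Mono (𝟙 Y))
      epi_g := ⟨fun a b _ => hZ.eq_of_src a b⟩ }
  exact (c.two S hS hY).1 hY

theorem iso {X Y : A} (e : X ≅ Y) (h : P X) : P Y := by
  let S := ShortComplex.mk (0 : (cokernel (𝟙 X)) ⟶ X) e.hom (by simp)
  have hz : IsZero S.X₁ := isZero_cokernel_of_epi (𝟙 X)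
  have hS : S.ShortExact :=
    { exact := (S.exact_iff_mono (by rfl)).2 (inferInstanceAs (Mono e.hom))
      mono_f := ⟨fun a b _ => hz.eq_of_tgt a b⟩
      epi_g := inferInstanceAs (Epi e.hom) }
  exact (c.two S hS (zero c hz)).1 h

/-- Make the terms in degrees `≥ a` lie in `P`. -/
theorem glue (X : CochainComplex A ℤ) (a : ℤ) :
    ∃ (Y : CochainComplex A ℤ) (f : X ⟶ Y), Mono f ∧ QuasiIso f ∧
      ∀ p : ℤ, a ≤ p → P (Y.X p) := by
  haveI : (KFlatLib.tr X a).IsStrictlyGE a :=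
    (CochainComplex.isStrictlyGE_iff _ a).2 fun i hi => KFlatLib.isZero_cut X hi
  obtain ⟨R, α, -, hR, hm, hq⟩ := CxRes.exists_resolution P
    ⟨_, isZero_cokernel_of_epi (𝟙 (X.X a)), zero c (isZero_cokernel_of_epi _)⟩ c.emb (KFlatLib.tr X a) a
  haveI : Mono α := HomologicalComplex.mono_of_mono_f _ hm
  have sq := IsPushout.of_hasPushout (KFlatLib.trι X a) α
  obtain ⟨h1, h2⟩ := MorphismProperty.of_isPushout (P := KInjRes.monoQis A) sq
    ⟨inferInstanceAs (Mono α), hq⟩
  refine ⟨_, pushout.inl (KFlatLib.trι X a) α, h1, h2, fun p hp => ?_⟩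
  have sqp := sq.map (HomologicalComplex.eval A (ComplexShape.up ℤ) p)
  have hi := sqp.isIso_inr_of_isIso (KFlatLib.isIso_cutι X hp)
  exact iso c (@asIso _ _ _ _ _ hi) (hR p)

omit c in
theorem isIso_ιTruncLE_f (K : CochainComplex A ℤ) (m i : ℤ) (hi : i < m) :
    IsIso ((K.ιTruncLE m).f i) := by
  let e := ComplexShape.embeddingUpIntLE m
  have hj : e.f (m - i).toNat = i := by simp [e]; omega
  have hb : ¬ e.BoundaryLE (m - i).toNat := by
    rw [ComplexShape.boundaryLE_embeddingUpIntLE_iff]; omega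
  change IsIso ((K.op.πTruncGE e.op).f i).unop
  haveI := K.op.isIso_restrictionToTruncGE' e.op (m - i).toNat (by simpa using hb)
  haveI : IsIso ((K.op.πTruncGE e.op).f i) := by
    dsimp only [HomologicalComplex.πTruncGE]
    rw [e.op.liftExtend_f _ _ hj]
    exact IsIso.comp_isIso' inferInstance (IsIso.comp_isIso' ‹_› inferInstance)
  infer_instance

theorem dim_trunc (τ : CochainComplex A ℤ) (i0 : ℤ) (hτ : τ.Acyclic) [τ.IsStrictlyLE (i0 + n)]
    (h : ∀ p : ℤ, i0 ≤ p → p < i0 + n → P (τ.X p)) : P (τ.X (i0 + n)) := by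
  let K : CochainComplex A ℕ := CochainComplex.of (fun i => τ.X (i0 + i))
    (fun i => τ.d (i0 + i) (i0 + ((i + 1 : ℕ) : ℤ))) (fun i => τ.d_comp_d _ _ _)
  have hd : ∀ i, K.d i (i + 1) = τ.d (i0 + i) (i0 + ((i + 1 : ℕ) : ℤ)) :=
    fun i => CochainComplex.of_d (fun i : ℕ => τ.X (i0 + i))
      (fun i => τ.d (i0 + i) (i0 + ((i + 1 : ℕ) : ℤ))) i
  refine c.dim K ?_ ?_ ?_ (fun i hi => h _ (by omega) (by omega))
  · rintro (_ | j) h1 -
    · omega
    rw [K.exactAt_iff' j (j + 1) (j + 1 + 1) (by simp) (by simp)]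
    have := hτ (i0 + ((j + 1 : ℕ) : ℤ))
    rw [τ.exactAt_iff' (i0 + j) _ (i0 + ((j + 1 + 1 : ℕ) : ℤ)) (by simp; omega) (by simp; omega)]
      at this
    refine ShortComplex.exact_of_iso ?_ this
    exact ShortComplex.isoMk (Iso.refl _) (Iso.refl _) (Iso.refl _)
      ((Category.id_comp _).trans ((hd j).trans (Category.comp_id _).symm))
      ((Category.id_comp _).trans ((hd (j + 1)).trans (Category.comp_id _).symm))
  · intro i hi
    exact τ.isZero_of_isStrictlyLE (i0 + n) _ (by omega)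
  · obtain ⟨j, rfl⟩ : ∃ j, n = j + 1 := ⟨n - 1, by have := c.pos; omega⟩
    rw [Nat.add_sub_cancel, hd]
    have := hτ (i0 + ((j + 1 : ℕ) : ℤ))
    rw [τ.exactAt_iff' (i0 + j) _ (i0 + ((j + 1 + 1 : ℕ) : ℤ)) (by simp; omega) (by simp; omega)]
      at this
    exact this.epi_f ((τ.isZero_of_isStrictlyLE (i0 + ((j + 1 : ℕ) : ℤ)) _ (by omega)).eq_of_tgt _ _)

/-- One step of the construction. -/
theorem step (X : CochainComplex A ℤ) (i0 i1 : ℤ) (h10 : i1 ≤ i0)
    (hX : ∀ p : ℤ, i0 ≤ p → P (X.X p)) :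
    ∃ (Y : CochainComplex A ℤ) (f : X ⟶ Y), QuasiIso f ∧ (∀ p : ℤ, i1 ≤ p → P (Y.X p)) ∧
      ∀ p : ℤ, i0 + n < p → IsIso (f.f p) := by
  obtain ⟨Y, f₀, hm, hq, hY⟩ := glue c X i1
  haveI := hm
  let Q := cokernel f₀
  let m : ℤ := i0 + n
  let τ := Q.truncLE m
  let ι : τ ⟶ Q := Q.ιTruncLE m
  let g : X ⟶ pullback (cokernel.π f₀) ι :=
    pullback.lift f₀ 0 (by rw [cokernel.condition, zero_comp])
  have hg : g ≫ pullback.fst _ _ = f₀ := pullback.lift_fst _ _ _
  haveI : Mono g := mono_of_mono_fac hg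
  have hQ : Q.Acyclic := (KInjRes.quasiIso_iff_acyclic_cokernel f₀).1 hq
  have hτ : τ.Acyclic := (Q.acyclic_truncLE_iff m (m + 1)).2
    ((CochainComplex.isGE_iff _ _).2 fun i _ => hQ i)
  let S₀ := ShortComplex.mk f₀ (cokernel.π f₀) (cokernel.condition f₀)
  have hS₀ : S₀.ShortExact := { exact := S₀.exact_of_g_is_cokernel (cokernelIsCokernel f₀) }
  let S := ShortComplex.mk g (pullback.snd (cokernel.π f₀) ι) (pullback.lift_snd _ _ _)
  have hS : S.ShortExact :=
    { mono_f := inferInstanceAs (Mono g)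
      epi_g := inferInstanceAs (Epi (pullback.snd (cokernel.π f₀) ι))
      exact := by
        apply ShortComplex.exact_of_f_is_kernel
        refine KernelFork.IsLimit.ofι' _ _ fun {W} k hk => ?_
        have h0 : (k ≫ pullback.fst _ _) ≫ cokernel.π f₀ = 0 := by
          rw [Category.assoc, pullback.condition, reassoc_of% hk, zero_comp]
        obtain ⟨l, hl⟩ := KernelFork.IsLimit.lift' hS₀.fIsKernel _ h0
        refine ⟨l, pullback.hom_ext ?_ ?_⟩
        · rw [Category.assoc]; change l ≫ g ≫ _ = _; rw [hg]; exact hl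
        · rw [Category.assoc, hk]; change l ≫ g ≫ pullback.snd _ _ = 0
          rw [pullback.lift_snd, comp_zero] }
  have hqg : QuasiIso g := (KInjRes.quasiIso_iff_acyclic_cokernel g).2 fun i =>
    (hτ i).of_iso ((cokernelIsCokernel g).coconePointUniqueUpToIso hS.gIsCokernel).symm
  have hSp : ∀ p, (S.map (HomologicalComplex.eval A (ComplexShape.up ℤ) p)).ShortExact :=
    fun p => hS.map_of_exact _
  have hQP : ∀ p, i0 ≤ p → P (Q.X p) := fun p hp =>
    (c.two _ (hS₀.map_of_exact (HomologicalComplex.eval A (ComplexShape.up ℤ) p)) (hX p hp)).1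
      (hY p (h10.trans hp))
  have hlt : ∀ p, p < m → IsIso (ι.f p) := fun p hp => isIso_ιTruncLE_f Q m p hp
  have htop : P (τ.X m) := dim_trunc c τ i0 hτ fun p hp hp' => by
    haveI := hlt p hp'
    exact iso c (asIso (ι.f p)).symm (hQP p hp)
  have hgt : ∀ p, m < p → IsIso (g.f p) := fun p hp =>
    (hSp p).isIso_f_iff.2 (τ.isZero_of_isStrictlyLE m p hp)
  refine ⟨_, g, hqg, fun p hp => ?_, hgt⟩
  rcases lt_trichotomy p m with h | h | h
  · haveI := hlt p h
    haveI : IsIso ((pullback.fst (cokernel.π f₀) ι).f p) :=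
      ((IsPullback.of_hasPullback (cokernel.π f₀) ι).map
        (HomologicalComplex.eval A (ComplexShape.up ℤ) p)).isIso_fst_of_isIso (hlt p h)
    exact iso c (asIso ((pullback.fst (cokernel.π f₀) ι).f p)).symm (hY p hp)
  · subst h
    exact (c.two _ (hSp m) (hX m (by omega))).2 htop
  · haveI := hgt p h
    exact iso c (asIso (g.f p)) (hX p (by omega))

/-- A stage of the iteration. -/
structure Stage (P : A → Prop) (k : ℕ) where
  /-- the complex -/
  Y : CochainComplex A ℤ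
  hY : ∀ p : ℤ, -(k : ℤ) ≤ p → P (Y.X p)

theorem exists_quasiIso (X : CochainComplex A ℤ) :
    ∃ (L : CochainComplex A ℤ) (f : X ⟶ L), QuasiIso f ∧ ∀ p, P (L.X p) := by
  obtain ⟨Y₀, f₀, -, hq₀, hY₀⟩ := glue c X 0
  have hstep : ∀ k (s : Stage P k), ∃ (t : Stage P (k + 1)) (f : s.Y ⟶ t.Y), QuasiIso f ∧
      ∀ p : ℤ, -(k : ℤ) + n < p → IsIso (f.f p) := fun k s => by
    obtain ⟨Y, f, h1, h2, h3⟩ := step c s.Y (-(k : ℤ)) (-((k + 1 : ℕ) : ℤ)) (by omega) s.hY
    exact ⟨⟨Y, h2⟩, f, h1, h3⟩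
  choose next φ hφ hφi using hstep
  let s : ∀ k, Stage P k := fun k =>
    Nat.rec (motive := fun k => Stage P k) ⟨Y₀, fun p hp => hY₀ p (by simpa using hp)⟩ next k
  let F : ℕ ⥤ CochainComplex A ℤ := Functor.ofSequence (X := fun k => (s k).Y) fun k => φ k (s k)
  have hmap : ∀ k, F.map (homOfLE (Nat.le_add_right k 1)) = φ k (s k) :=
    fun k => Functor.ofSequence_map_homOfLE_succ _ k
  have hq : ∀ k, QuasiIso (F.map (homOfLE (Nat.zero_le k))) := fun k => by
    induction k with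
    | zero =>
      rw [show homOfLE (Nat.zero_le 0) = 𝟙 0 from Subsingleton.elim _ _, F.map_id]
      infer_instance
    | succ k ih =>
      rw [show homOfLE (Nat.zero_le (k + 1)) =
        homOfLE (Nat.zero_le k) ≫ homOfLE (Nat.le_add_right k 1) from Subsingleton.elim _ _,
        F.map_comp, hmap]
      exact @quasiIso_comp _ _ _ _ _ _ _ _ (F.map (homOfLE (Nat.zero_le k))) (φ k (s k))
        _ _ _ ih (hφ k (s k))
  have hc : ∀ (p : ℤ) (k0 : ℕ), -(k0 : ℤ) + n < p →
      (F ⋙ eval A (ComplexShape.up ℤ) p).IsEventuallyConstantFrom k0 := fun p k0 h => by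
    intro j α
    obtain ⟨d, rfl⟩ := Nat.le.dest (leOfHom α)
    induction d with
    | zero =>
      rw [show α = 𝟙 k0 from Subsingleton.elim _ _]
      infer_instance
    | succ d ih =>
      rw [show α = homOfLE (Nat.le_add_right k0 d) ≫ homOfLE (Nat.le_add_right (k0 + d) 1)
        from Subsingleton.elim _ _, Functor.map_comp]
      haveI := ih (homOfLE (Nat.le_add_right k0 d))
      haveI : IsIso ((F ⋙ eval A (ComplexShape.up ℤ) p).map
          (homOfLE (Nat.le_add_right (k0 + d) 1))) := by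
        rw [Functor.comp_map, hmap]
        exact hφi (k0 + d) _ p (by push_cast; omega)
      infer_instance
  haveI : ∀ p, HasColimit (F ⋙ eval A (ComplexShape.up ℤ) p) := fun p =>
    (hc p ((n : ℤ) - p + 1).toNat (by omega)).hasColimit
  have hι : ∀ (p : ℤ) (k : ℕ), -(k : ℤ) + n < p → IsIso ((colimit.ι F k).f p) := fun p k h =>
    (hc p k h).isIso_ι_of_isColimit
      (isColimitOfPreserves (eval A (ComplexShape.up ℤ) p) (colimit.isColimit F))
  refine ⟨colimit F, f₀ ≫ colimit.ι F 0, ⟨fun p => ?_⟩, fun p => ?_⟩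
  · have k1 : ∃ k : ℕ, -(k : ℤ) + n < p - 1 := ⟨((n : ℤ) - p + 2).toNat, by omega⟩
    obtain ⟨k, hk⟩ := k1
    haveI := hq k
    haveI : QuasiIsoAt (colimit.ι F k) p := by
      rw [quasiIsoAt_iff' _ (p - 1) p (p + 1) (by simp) (by simp)]
      haveI := hι (p - 1) k hk
      haveI := hι p k (by omega)
      haveI := hι (p + 1) k (by omega)
      haveI : IsIso ((shortComplexFunctor' A (ComplexShape.up ℤ) (p - 1) p (p + 1)).map
          (colimit.ι F k)).τ₁ := hι (p - 1) k hk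
      haveI : IsIso ((shortComplexFunctor' A (ComplexShape.up ℤ) (p - 1) p (p + 1)).map
          (colimit.ι F k)).τ₂ := hι p k (by omega)
      haveI : IsIso ((shortComplexFunctor' A (ComplexShape.up ℤ) (p - 1) p (p + 1)).map
          (colimit.ι F k)).τ₃ := hι (p + 1) k (by omega)
      exact ShortComplex.quasiIso_of_epi_of_isIso_of_mono _
    haveI : QuasiIsoAt f₀ p := hq₀.quasiIsoAt p
    haveI : QuasiIsoAt (F.map (homOfLE (Nat.zero_le k))) p := (hq k).quasiIsoAt p
    haveI : QuasiIsoAt (colimit.ι F 0) p := by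
      rw [← colimit.w F (homOfLE (Nat.zero_le k))]
      exact quasiIsoAt_comp _ _ _
    exact @quasiIsoAt_comp _ _ _ _ _ _ _ _ f₀ (colimit.ι F 0) p _ _ _ ‹_› ‹_›
  · have k1 : ∃ k : ℕ, -(k : ℤ) + n < p ∧ -(k : ℤ) ≤ p :=
      ⟨((n : ℤ) - p + 1).toNat, by omega, by omega⟩
    obtain ⟨k, hk, hk'⟩ := k1
    haveI := hι p k hk
    exact iso c (asIso ((colimit.ι F k).f p)) ((s k).hY p hk')

end Groth.Agent.UnbRes
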