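import Groth.Agent.UnbRes.Basic
import Groth.Agent.KInjRes.Hull

/-!
An unbounded complex maps quasi-isomorphically into a complex with terms of dimension zero, for a
dimension function tending to `-∞` fast enough.
-/

universe v u

open CategoryTheory CategoryTheory.Limits HomologicalComplex

namespace Groth.Agent.UnbRes

variable {A : Type u} [Category.{v} A] [Abelian A] (d : A → ℕ∞)
  (hiso : ∀ ⦃X Y : A⦄, Nonempty (X ≅ Y) → d X = d Y)
  (h1 : ∀ X : A, ∃ (Y : A) (ι : X ⟶ Y), Mono ι ∧ d Y = 0)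
  (h2 : ∀ X Y : A, d (X ⊞ Y) ≤ max (d X) (d Y))
  (h3 : ∀ S : ShortComplex A, S.ShortExact → d S.X₃ ≤ max (d S.X₁ - 1) (d S.X₂))

include h1 h3 in
theorem dim_zero {Z : A} (hZ : IsZero Z) : d Z = 0 := by
  obtain ⟨Y, i, -, hY⟩ := h1 Z
  let S := ShortComplex.mk (𝟙 Y) (0 : Y ⟶ Z) (by simp)
  have hS : S.ShortExact :=
    { exact := (S.exact_iff_epi (by rfl)).2 (inferInstanceAs (Epi (𝟙 Y)))
      mono_f := inferInstanceAs (Mono (𝟙 Y))
      epi_g := ⟨fun a b _ => hZ.eq_of_src a b⟩ }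
  have h := h3 S hS
  simp [S, hY] at h
  exact h

include hiso h1 h3 in
theorem glue0 (X : CochainComplex A ℤ) (a : ℤ) :
    ∃ (Y : CochainComplex A ℤ) (f : X ⟶ Y), QuasiIso f ∧
      (∀ p : ℤ, a ≤ p → d (Y.X p) = 0) ∧ ∀ p : ℤ, p < a → IsIso (f.f p) := by
  haveI : (KFlatLib.tr X a).IsStrictlyGE a :=
    (CochainComplex.isStrictlyGE_iff _ a).2 fun i hi => KFlatLib.isZero_cut X hi
  obtain ⟨R, α, hRa, hR, hm, hq⟩ := CxRes.exists_resolution (fun Y => d Y = 0)
    ⟨_, isZero_cokernel_of_epi (𝟙 (X.X a)), dim_zero d h1 h3 (isZero_cokernel_of_epi _)⟩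
    (fun Y => by obtain ⟨Z, i, hi, hZ⟩ := h1 Y; exact ⟨Z, i, hZ, hi⟩) (KFlatLib.tr X a) a
  haveI : Mono α := HomologicalComplex.mono_of_mono_f _ hm
  have sq := IsPushout.of_hasPushout (KFlatLib.trι X a) α
  obtain ⟨-, hq2⟩ := MorphismProperty.of_isPushout (P := KInjRes.monoQis A) sq
    ⟨inferInstanceAs (Mono α), hq⟩
  refine ⟨_, pushout.inl (KFlatLib.trι X a) α, hq2, fun p hp => ?_, fun p hp => ?_⟩
  · have sqp := sq.map (HomologicalComplex.eval A (ComplexShape.up ℤ) p)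
    have hi := sqp.isIso_inr_of_isIso (KFlatLib.isIso_cutι X hp)
    exact (hiso ⟨@asIso _ _ _ _ _ hi⟩).symm.trans (hR p)
  · have hz : IsZero ((KFlatLib.tr X a).X p) := KFlatLib.isZero_cut X hp
    refine (sq.map (HomologicalComplex.eval A (ComplexShape.up ℤ) p)).isIso_inl_of_isIso ?_
    show IsIso (α.f p)
    exact ⟨0, hz.eq_of_src _ _, (R.isZero_of_isStrictlyGE a p hp).eq_of_src _ _⟩

include hiso h1 h2 h3 in
/-- Make the degree `n` term zero-dimensional, at the cost of the degrees `n+1, …, n+k+1`. -/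
theorem push (k : ℕ) : ∀ (X : CochainComplex A ℤ) (n : ℤ), d (X.X n) ≤ k →
    (∀ p : ℤ, n < p → d (X.X p) = 0) →
    ∃ (Y : CochainComplex A ℤ) (f : X ⟶ Y), QuasiIso f ∧ (∀ p : ℤ, n ≤ p → d (Y.X p) = 0) ∧
      (∀ p : ℤ, p < n → IsIso (f.f p)) ∧ ∀ p : ℤ, n + k + 1 < p → IsIso (f.f p) := by
  induction k with
  | zero =>
    intro X n hn hX
    refine ⟨X, 𝟙 X, inferInstance, fun p hp => ?_, fun p _ => inferInstance, fun p _ => inferInstance⟩
    rcases hp.eq_or_lt with rfl | h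
    · simpa using hn
    · exact hX p h
  | succ k ih =>
    intro X n hn hX
    obtain ⟨M, i, hi, hM⟩ := h1 (X.X n)
    let a := KInjRes.discHom (K := X) (𝟙 (X.X n))
    let b := KInjRes.discMap n i
    have sq := IsPushout.of_hasPushout a b
    haveI hb : QuasiIso b := by
      refine ⟨fun j => ?_⟩
      rw [quasiIsoAt_iff_isIso_homologyMap]
      exact ⟨0, ((exactAt_iff_isZero_homology _ j).1 (KInjRes.acyclic_disc n _ j)).eq_of_src _ _,
        ((exactAt_iff_isZero_homology _ j).1 (KInjRes.acyclic_disc n _ j)).eq_of_src _ _⟩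
    obtain ⟨-, hq⟩ := MorphismProperty.of_isPushout (P := KInjRes.monoQis A) sq
      ⟨inferInstanceAs (Mono b), hb⟩
    let g := pushout.inl a b
    haveI : QuasiIso g := hq
    have sqp := fun p => sq.map (HomologicalComplex.eval A (ComplexShape.up ℤ) p)
    have hout : ∀ p, p ≠ n → p ≠ n + 1 → IsIso (g.f p) := fun p h₀ h₁ => by
      refine (sqp p).isIso_inl_of_isIso ?_
      have hs := isZero_double_X (𝟙 (X.X n)) (KInjRes.rel_succ n) p h₀ h₁
      have ht := isZero_double_X (𝟙 M) (KInjRes.rel_succ n) p h₀ h₁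
      exact ⟨0, hs.eq_of_src _ _, ht.eq_of_src _ _⟩
    have hdn : d ((pushout a b).X n) = 0 := by
      have ha : IsIso (a.f n) := by
        have h := KInjRes.discHom_f (K := X) (𝟙 (X.X n))
        rw [Iso.inv_comp_eq, Category.comp_id] at h
        rw [show a.f n = _ from h]
        infer_instance
      have := (sqp n).isIso_inr_of_isIso ha
      exact ((hiso ⟨@asIso _ _ _ _ _ this⟩).symm.trans (hiso ⟨doubleXIso₀ (𝟙 M) (KInjRes.rel_succ n)⟩)).trans hM
    have hdn1 : d ((pushout a b).X (n + 1)) ≤ k := by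
      have e := (sqp (n + 1)).exact_shortComplex
      haveI : Mono (b.f (n + 1)) := inferInstanceAs (Mono ((eval A (ComplexShape.up ℤ) (n + 1)).map b))
      have hS : (sqp (n + 1)).shortComplex.ShortExact :=
        { exact := e
          mono_f := by
            haveI : Mono (biprod.lift (a.f (n + 1)) (-b.f (n + 1))) :=
              mono_of_mono_fac (biprod.lift_snd (a.f (n + 1)) (-b.f (n + 1)))
            exact ‹_›
          epi_g := (sqp (n + 1)).epi_shortComplex_g }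
      refine le_trans (h3 _ hS) (max_le ?_ (le_trans (h2 _ _) (max_le ?_ ?_)))
      · rw [show d (sqp (n + 1)).shortComplex.X₁ = d (X.X n) from hiso ⟨doubleXIso₁ (𝟙 (X.X n)) (KInjRes.rel_succ n) (KInjRes.succ_ne n)⟩]
        exact tsub_le_iff_right.2 (by exact_mod_cast hn)
      · exact (hX (n + 1) (by omega)).trans_le bot_le
      · exact ((hiso ⟨doubleXIso₁ (𝟙 M) (KInjRes.rel_succ n) (KInjRes.succ_ne n)⟩).trans hM).trans_le bot_le
    obtain ⟨Y, f, hf, hY, hlo, hhi⟩ := ih (pushout a b) (n + 1) hdn1 fun p hp => by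
      haveI := hout p (by omega) (by omega)
      exact (hiso ⟨asIso (g.f p)⟩).symm.trans (hX p (by omega))
    refine ⟨Y, g ≫ f, inferInstance, fun p hp => ?_, fun p hp => ?_, fun p hp => ?_⟩
    · rcases hp.eq_or_lt with rfl | h
      · haveI := hlo n (by omega)
        exact (hiso ⟨asIso (f.f n)⟩).symm.trans hdn
      · exact hY p (by omega)
    · haveI := hout p (by omega) (by omega)
      haveI := hlo p (by omega)
      rw [comp_f]; infer_instance
    · haveI := hout p (by omega) (by omega)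
      haveI := hhi p (by push_cast at hp ⊢; omega)
      rw [comp_f]; infer_instance

include hiso h1 h2 h3 in
theorem exists_quasiIso_dim_zero (K : CochainComplex A ℤ) (hfin : ∀ n : ℤ, d (K.X n) ≠ ⊤)
    (hK : ∀ m : ℤ, ∃ N : ℤ, ∀ n : ℤ, n ≤ N → ∃ k : ℕ, d (K.X n) = k ∧ n + k ≤ m) :
    ∃ (L : CochainComplex A ℤ) (f : K ⟶ L), QuasiIso f ∧ ∀ n, d (L.X n) = 0 := by
  obtain ⟨Y₀, f₀, hq₀, hY₀, hlo₀⟩ := glue0 d hiso h1 h3 K 0
  let dd : ℕ → ℕ := fun j => (d (K.X (-((j + 1 : ℕ) : ℤ)))).toNat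
  let St := fun j : ℕ => { X : Σ Y : CochainComplex A ℤ, (K ⟶ Y) //
    QuasiIso X.2 ∧ (∀ p : ℤ, -(j : ℤ) ≤ p → d (X.1.X p) = 0) ∧ ∀ p : ℤ, p < -(j : ℤ) → IsIso (X.2.f p) }
  have hstep : ∀ j (s : St j), ∃ (t : St (j + 1)) (φ : s.1.1 ⟶ t.1.1), s.1.2 ≫ φ = t.1.2 ∧ QuasiIso φ ∧
      ∀ p : ℤ, -((j + 1 : ℕ) : ℤ) + dd j + 1 < p → IsIso (φ.f p) := by
    rintro j ⟨⟨Y, g⟩, hg, hY, hlo⟩
    haveI := hlo (-((j + 1 : ℕ) : ℤ)) (by omega)
    have hd : d (Y.X (-((j + 1 : ℕ) : ℤ))) ≤ dd j := by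
      rw [← hiso ⟨asIso (g.f (-((j + 1 : ℕ) : ℤ)))⟩]
      exact (ENat.coe_toNat (hfin _)).symm.le
    obtain ⟨Y', φ, hφ, hY', hlo', hhi⟩ := push d hiso h1 h2 h3 (dd j) Y _ hd fun p hp => hY p (by omega)
    haveI := hg
    haveI := hφ
    refine ⟨⟨⟨Y', g ≫ φ⟩, inferInstance, hY', fun p hp => ?_⟩, φ, rfl, hφ, hhi⟩
    haveI := hlo p (by omega)
    haveI := hlo' p hp
    show IsIso ((g ≫ φ).f p)
    rw [comp_f]; infer_instance
  choose next φ hcomp hφ hφi using hstep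
  let s : ∀ j, St j := fun j =>
    Nat.rec (motive := St) ⟨⟨Y₀, f₀⟩, hq₀, fun p hp => hY₀ p (by simpa using hp),
      fun p hp => hlo₀ p (by simpa using hp)⟩ next j
  let F : ℕ ⥤ CochainComplex A ℤ := Functor.ofSequence (X := fun j => (s j).1.1) fun j => φ j (s j)
  have hmap : ∀ k, F.map (homOfLE (Nat.le_add_right k 1)) = φ k (s k) :=
    fun k => Functor.ofSequence_map_homOfLE_succ _ k
  have hfac : ∀ k, (f₀ : K ⟶ F.obj 0) ≫ F.map (homOfLE (Nat.zero_le k)) = (s k).1.2 := fun k => by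
    induction k with
    | zero =>
      rw [show homOfLE (Nat.zero_le 0) = 𝟙 0 from Subsingleton.elim _ _, F.map_id]
      exact Category.comp_id _
    | succ k ih =>
      rw [show homOfLE (Nat.zero_le (k + 1)) =
        homOfLE (Nat.zero_le k) ≫ homOfLE (Nat.le_add_right k 1) from Subsingleton.elim _ _,
        F.map_comp, hmap]
      exact (Category.assoc _ _ _).symm.trans ((congrArg (· ≫ φ k (s k)) ih).trans (hcomp k (s k)))
  have hev : ∀ p : ℤ, ∃ k0 : ℕ, -(k0 : ℤ) ≤ p ∧ ∀ j, k0 ≤ j → -((j + 1 : ℕ) : ℤ) + dd j + 1 < p := fun p => by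
    obtain ⟨N, hN⟩ := hK (p - 2)
    refine ⟨max (-N).toNat (-p).toNat, by omega, fun j hj => ?_⟩
    obtain ⟨k, hk, hk'⟩ := hN (-((j + 1 : ℕ) : ℤ)) (by omega)
    have : dd j = k := by simp only [dd]; rw [hk]; simp
    omega
  choose k0 hk0 hj0 using hev
  have hc : ∀ (p : ℤ) (k : ℕ), k0 p ≤ k →
      (F ⋙ eval A (ComplexShape.up ℤ) p).IsEventuallyConstantFrom k := fun p k hk => by
    intro j α
    obtain ⟨e, rfl⟩ := Nat.le.dest (leOfHom α)
    induction e with
    | zero =>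
      rw [show α = 𝟙 k from Subsingleton.elim _ _]
      infer_instance
    | succ e ih =>
      rw [show α = homOfLE (Nat.le_add_right k e) ≫ homOfLE (Nat.le_add_right (k + e) 1)
        from Subsingleton.elim _ _, Functor.map_comp]
      haveI := ih (homOfLE (Nat.le_add_right k e))
      haveI : IsIso ((F ⋙ eval A (ComplexShape.up ℤ) p).map
          (homOfLE (Nat.le_add_right (k + e) 1))) := by
        rw [Functor.comp_map, hmap]
        exact hφi (k + e) _ p (hj0 p _ (by omega))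
      infer_instance
  haveI : ∀ p, HasColimit (F ⋙ eval A (ComplexShape.up ℤ) p) := fun p => (hc p _ le_rfl).hasColimit
  have hι : ∀ (p : ℤ) (k : ℕ), k0 p ≤ k → IsIso ((colimit.ι F k).f p) := fun p k h =>
    (hc p k h).isIso_ι_of_isColimit
      (isColimitOfPreserves (eval A (ComplexShape.up ℤ) p) (colimit.isColimit F))
  refine ⟨colimit F, f₀ ≫ colimit.ι F 0, ⟨fun p => ?_⟩, fun p => ?_⟩
  · let k := max (k0 p) (max (k0 (p - 1)) (k0 (p + 1)))
    haveI : QuasiIsoAt (colimit.ι F k) p := by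
      rw [quasiIsoAt_iff' _ (p - 1) p (p + 1) (by simp) (by simp)]
      haveI : IsIso ((shortComplexFunctor' A (ComplexShape.up ℤ) (p - 1) p (p + 1)).map
          (colimit.ι F k)).τ₁ := hι (p - 1) k (by omega)
      haveI : IsIso ((shortComplexFunctor' A (ComplexShape.up ℤ) (p - 1) p (p + 1)).map
          (colimit.ι F k)).τ₂ := hι p k (by omega)
      haveI : IsIso ((shortComplexFunctor' A (ComplexShape.up ℤ) (p - 1) p (p + 1)).map
          (colimit.ι F k)).τ₃ := hι (p + 1) k (by omega)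
      exact ShortComplex.quasiIso_of_epi_of_isIso_of_mono _
    haveI : QuasiIsoAt (s k).1.2 p := (s k).2.1.quasiIsoAt p
    have e : (f₀ : K ⟶ F.obj 0) ≫ colimit.ι F 0 = (s k).1.2 ≫ colimit.ι F k := by
      rw [← colimit.w F (homOfLE (Nat.zero_le k))]
      exact (Category.assoc _ _ _).symm.trans (congrArg (· ≫ colimit.ι F k) (hfac k))
    change QuasiIsoAt ((f₀ : K ⟶ F.obj 0) ≫ colimit.ι F 0) p
    rw [e]
    exact @quasiIsoAt_comp _ _ _ _ _ _ _ _ ((s k).1.2 : K ⟶ F.obj k) (colimit.ι F k) p _ _ _ ‹_› ‹_›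
  · haveI := hι p (k0 p) le_rfl
    exact (hiso ⟨asIso ((colimit.ι F (k0 p)).f p)⟩).symm.trans ((s (k0 p)).2.2.1 p (hk0 p))

end Groth.Agent.UnbRes
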